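import Mathlib.RingTheory.GradedAlgebra.HomogeneousLocalization
import Mathlib.RingTheory.GradedAlgebra.Homogeneous.Ideal
import Mathlib.RingTheory.GradedAlgebra.Radical
import Mathlib.RingTheory.Ideal.KrullsHeightTheorem
import Mathlib.RingTheory.KrullDimension.Basic

/-!
# The degree zero part of a homogeneous localization at a prime
-/

set_option autoImplicit false
set_option linter.unusedSectionVars false

universe u

open HomogeneousLocalization DirectSum

namespace Groth.Agent.PStalk95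

variable {A : Type u} [CommRing A] {σ : Type*} [SetLike σ A] [AddSubgroupClass σ A] (𝒜 : ℕ → σ) [GradedRing 𝒜]
variable (p : Ideal A) [p.IsPrime]

/-- The inclusion into the localization. -/
abbrev inc : HomogeneousLocalization.AtPrime 𝒜 p →+* Localization.AtPrime p :=
  algebraMap (HomogeneousLocalization.AtPrime 𝒜 p) (Localization.AtPrime p)

variable {𝒜 p}

/-- A fraction of two homogeneous elements of the same degree. -/
def frac {a v : A} {d : ℕ} (ha : a ∈ 𝒜 d) (hv : v ∈ 𝒜 d) (hvp : v ∉ p) :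
    HomogeneousLocalization.AtPrime 𝒜 p :=
  HomogeneousLocalization.mk ⟨d, ⟨a, ha⟩, ⟨v, hv⟩, hvp⟩

theorem inc_injective : Function.Injective (inc 𝒜 p) := val_injective _

theorem inc_frac {a v : A} {d : ℕ} (ha : a ∈ 𝒜 d) (hv : v ∈ 𝒜 d) (hvp : v ∉ p) :
    inc 𝒜 p (frac ha hv hvp) = IsLocalization.mk' (Localization.AtPrime p) a (⟨v, hvp⟩ : p.primeCompl) := by
  rw [← Localization.mk_eq_mk']
  exact val_mk _

theorem exists_frac (z : HomogeneousLocalization.AtPrime 𝒜 p) :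
    ∃ (d : ℕ) (a v : A) (ha : a ∈ 𝒜 d) (hv : v ∈ 𝒜 d) (hvp : v ∉ p), z = frac ha hv hvp := by
  obtain ⟨⟨d, ⟨a, ha⟩, ⟨v, hv⟩, hvp⟩, rfl⟩ := HomogeneousLocalization.mk_surjective z
  exact ⟨d, a, v, ha, hv, hvp, rfl⟩

theorem frac_eq {a v b w : A} {d e : ℕ} (ha : a ∈ 𝒜 d) (hv : v ∈ 𝒜 d) (hvp : v ∉ p)
    (hb : b ∈ 𝒜 e) (hw : w ∈ 𝒜 e) (hwp : w ∉ p) (h : a * w = b * v) :
    frac ha hv hvp = frac hb hw hwp := by
  apply inc_injective
  rw [inc_frac, inc_frac, IsLocalization.mk'_eq_iff_eq]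
  exact congrArg _ (by rw [mul_comm, h, mul_comm])

theorem frac_zero {v : A} {d : ℕ} (hv : v ∈ 𝒜 d) (hvp : v ∉ p) :
    frac (zero_mem (𝒜 d)) hv hvp = 0 := by
  apply inc_injective
  rw [inc_frac, map_zero, IsLocalization.mk'_zero]

theorem frac_add {a b v : A} {d : ℕ} (ha : a ∈ 𝒜 d) (hb : b ∈ 𝒜 d) (hv : v ∈ 𝒜 d) (hvp : v ∉ p) :
    frac (add_mem ha hb) hv hvp = frac ha hv hvp + frac hb hv hvp := by
  apply inc_injective
  rw [map_add, inc_frac, inc_frac, inc_frac, ← IsLocalization.mk'_add, IsLocalization.mk'_eq_iff_eq]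
  refine congrArg _ ?_
  simp only [Submonoid.coe_mul]
  ring

theorem mul_notMem {v w : A} (hv : v ∉ p) (hw : w ∉ p) : v * w ∉ p := fun h =>
  (Ideal.IsPrime.mem_or_mem inferInstance h).elim hv hw

theorem pow_notMem {v : A} (hv : v ∉ p) (n : ℕ) : v ^ n ∉ p := fun h =>
  hv (Ideal.IsPrime.mem_of_pow_mem inferInstance n h)

theorem frac_mul {a v b w : A} {d e : ℕ} (ha : a ∈ 𝒜 d) (hv : v ∈ 𝒜 d) (hvp : v ∉ p)
    (hb : b ∈ 𝒜 e) (hw : w ∈ 𝒜 e) (hwp : w ∉ p) :
    frac ha hv hvp * frac hb hw hwp =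
      frac (SetLike.mul_mem_graded ha hb) (SetLike.mul_mem_graded hv hw) (mul_notMem hvp hwp) := by
  apply inc_injective
  rw [map_mul, inc_frac, inc_frac, inc_frac, ← IsLocalization.mk'_mul]
  rfl

theorem frac_pow {a v : A} {d : ℕ} (ha : a ∈ 𝒜 d) (hv : v ∈ 𝒜 d) (hvp : v ∉ p) (n : ℕ) :
    frac ha hv hvp ^ n =
      frac (SetLike.pow_mem_graded n ha) (SetLike.pow_mem_graded n hv) (pow_notMem hvp n) := by
  apply inc_injective
  rw [map_pow, inc_frac, inc_frac, ← IsLocalization.mk'_pow]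
  rfl

theorem notMem_isUnit_frac {a v : A} {d : ℕ} (ha : a ∈ 𝒜 d) (hv : v ∈ 𝒜 d) (hvp : v ∉ p) :
    IsUnit (frac ha hv hvp) ↔ a ∉ p := by
  rw [← isUnit_iff_isUnit_val]
  show IsUnit (inc 𝒜 p (frac ha hv hvp)) ↔ _
  rw [inc_frac, IsLocalization.AtPrime.isUnit_mk'_iff]
  rfl

instance : IsLocalHom (inc 𝒜 p) :=
  ⟨fun z hz => (isUnit_iff_isUnit_val 𝒜 p z).1 hz⟩

variable (J : Ideal (HomogeneousLocalization.AtPrime 𝒜 p))

/-- The homogeneous ideal of the ring attached to an ideal of the degree zero localization. -/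
def gIdeal : Ideal A where
  carrier := {a | ∀ (d i : ℕ) (b v : A) (hb : b ∈ 𝒜 i) (hv : v ∈ 𝒜 (d + i)) (hvp : v ∉ p),
    frac (SetLike.mul_mem_graded (SetLike.coe_mem (decompose 𝒜 a d)) hb) hv hvp ∈ J}
  zero_mem' d i b v hb hv hvp := by
    rw [show frac (SetLike.mul_mem_graded (SetLike.coe_mem (decompose 𝒜 (0 : A) d)) hb) hv hvp =
        frac (zero_mem (𝒜 (d + i))) hv hvp from frac_eq _ _ _ _ _ _ (by simp), frac_zero]
    exact zero_mem _
  add_mem' {a c} h h' d i b v hb hv hvp := by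
    rw [show frac (SetLike.mul_mem_graded (SetLike.coe_mem (decompose 𝒜 (a + c) d)) hb) hv hvp =
        frac (add_mem (SetLike.mul_mem_graded (SetLike.coe_mem (decompose 𝒜 a d)) hb)
          (SetLike.mul_mem_graded (SetLike.coe_mem (decompose 𝒜 c d)) hb)) hv hvp from
      frac_eq _ _ _ _ _ _ (by simp [decompose_add, add_mul]),
      frac_add (SetLike.mul_mem_graded (SetLike.coe_mem _) hb) (SetLike.mul_mem_graded (SetLike.coe_mem _) hb)]
    exact add_mem (h d i b v hb hv hvp) (h' d i b v hb hv hvp)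
  smul_mem' c a h := by
    classical
    show ∀ (d i : ℕ) (b v : A) (hb : b ∈ 𝒜 i) (hv : v ∈ 𝒜 (d + i)) (hvp : v ∉ p), _
    induction c using DirectSum.Decomposition.inductionOn 𝒜 with
    | zero =>
      intro d i b v hb hv hvp
      rw [show frac (SetLike.mul_mem_graded (SetLike.coe_mem (decompose 𝒜 ((0 : A) • a) d)) hb) hv hvp =
          frac (zero_mem (𝒜 (d + i))) hv hvp from frac_eq _ _ _ _ _ _ (by simp), frac_zero]
      exact zero_mem _
    | homogeneous c =>
      rename_i j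
      intro d i b v hb hv hvp
      rcases le_or_gt j d with hjd | hjd
      · obtain ⟨e, rfl⟩ := Nat.exists_eq_add_of_le hjd
        have he : (decompose 𝒜 ((c : A) • a) (j + e) : A) = c * decompose 𝒜 a e :=
          DirectSum.coe_decompose_mul_add_of_left_mem 𝒜 c.2
        have hv' : v ∈ 𝒜 (e + (j + i)) := by rwa [← add_assoc, add_comm e j]
        rw [show frac (SetLike.mul_mem_graded (SetLike.coe_mem (decompose 𝒜 ((c : A) • a) (j + e))) hb) hv hvp =
            frac (SetLike.mul_mem_graded (SetLike.coe_mem (decompose 𝒜 a e)) (SetLike.mul_mem_graded c.2 hb)) hv' hvp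
          from frac_eq _ _ _ _ _ _ (by rw [he]; ring)]
        exact h e (j + i) _ v (SetLike.mul_mem_graded c.2 hb) hv' hvp
      · have he : (decompose 𝒜 ((c : A) • a) d : A) = 0 :=
          DirectSum.coe_decompose_mul_of_left_mem_of_not_le 𝒜 c.2 (not_le.2 hjd)
        rw [show frac (SetLike.mul_mem_graded (SetLike.coe_mem (decompose 𝒜 ((c : A) • a) d)) hb) hv hvp =
            frac (zero_mem (𝒜 (d + i))) hv hvp from frac_eq _ _ _ _ _ _ (by rw [he]; simp), frac_zero]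
        exact zero_mem _
    | add c c' hc hc' =>
      intro d i b v hb hv hvp
      rw [show frac (SetLike.mul_mem_graded (SetLike.coe_mem (decompose 𝒜 ((c + c') • a) d)) hb) hv hvp =
          frac (add_mem (SetLike.mul_mem_graded (SetLike.coe_mem (decompose 𝒜 (c • a) d)) hb)
            (SetLike.mul_mem_graded (SetLike.coe_mem (decompose 𝒜 (c' • a) d)) hb)) hv hvp from
        frac_eq _ _ _ _ _ _ (by simp [decompose_add, add_mul, add_smul]),
        frac_add (SetLike.mul_mem_graded (SetLike.coe_mem _) hb) (SetLike.mul_mem_graded (SetLike.coe_mem _) hb)]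
      exact add_mem (hc d i b v hb hv hvp) (hc' d i b v hb hv hvp)

variable {J}

theorem mem_gIdeal {a : A} {d : ℕ} (ha : a ∈ 𝒜 d) :
    a ∈ gIdeal J ↔ ∀ (i : ℕ) (b v : A) (hb : b ∈ 𝒜 i) (hv : v ∈ 𝒜 (d + i)) (hvp : v ∉ p),
      frac (SetLike.mul_mem_graded ha hb) hv hvp ∈ J := by
  refine ⟨fun h i b v hb hv hvp => ?_, fun h e i b v hb hv hvp => ?_⟩
  · have := h d i b v hb hv hvp
    rwa [show frac (SetLike.mul_mem_graded (SetLike.coe_mem (decompose 𝒜 a d)) hb) hv hvp =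
      frac (SetLike.mul_mem_graded ha hb) hv hvp from
        frac_eq _ _ _ _ _ _ (by rw [decompose_of_mem_same 𝒜 ha])] at this
  · rcases eq_or_ne d e with rfl | hne
    · rw [show frac (SetLike.mul_mem_graded (SetLike.coe_mem (decompose 𝒜 a d)) hb) hv hvp =
        frac (SetLike.mul_mem_graded ha hb) hv hvp from
          frac_eq _ _ _ _ _ _ (by rw [decompose_of_mem_same 𝒜 ha])]
      exact h i b v hb hv hvp
    · rw [show frac (SetLike.mul_mem_graded (SetLike.coe_mem (decompose 𝒜 a e)) hb) hv hvp =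
        frac (zero_mem (𝒜 (e + i))) hv hvp from
          frac_eq _ _ _ _ _ _ (by rw [decompose_of_mem_ne 𝒜 ha hne]; simp), frac_zero]
      exact zero_mem _

theorem gIdeal_isHomogeneous : (gIdeal J).IsHomogeneous 𝒜 := fun d a h => by
  rw [mem_gIdeal (SetLike.coe_mem _)]
  exact fun i b v hb hv hvp => h d i b v hb hv hvp

theorem num_mem_gIdeal {a v : A} {d : ℕ} (ha : a ∈ 𝒜 d) (hv : v ∈ 𝒜 d) (hvp : v ∉ p)
    (h : frac ha hv hvp ∈ J) : a ∈ gIdeal J := by
  rw [mem_gIdeal ha]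
  intro i b w hb hw hwp
  have hm := J.mul_mem_right (frac (SetLike.mul_mem_graded hv hb) hw hwp) h
  rwa [frac_mul, frac_eq (b := a * b) (w := w) _ _ _ (SetLike.mul_mem_graded ha hb) hw hwp (by ring)] at hm

theorem map_inc_le : J.map (inc 𝒜 p) ≤ (gIdeal J).map (algebraMap A (Localization.AtPrime p)) := by
  refine Ideal.map_le_iff_le_comap.2 fun z hz => ?_
  obtain ⟨d, a, v, ha, hv, hvp, rfl⟩ := exists_frac z
  rw [Ideal.mem_comap, inc_frac, IsLocalization.mk'_eq_mul_mk'_one]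
  exact Ideal.mul_mem_right _ _ (Ideal.mem_map_of_mem _ (num_mem_gIdeal ha hv hvp hz))

theorem exists_component_notMem (hp : p.IsHomogeneous 𝒜) {w : A} (hw : w ∉ p) :
    ∃ e, (decompose 𝒜 w e : A) ∉ p := by
  by_contra h
  push Not at h
  exact hw ((hp.mem_iff).2 h)

theorem mem_of_inc_mem_map_gIdeal (hp : p.IsHomogeneous 𝒜) {z : HomogeneousLocalization.AtPrime 𝒜 p}
    (hz : inc 𝒜 p z ∈ (gIdeal J).map (algebraMap A (Localization.AtPrime p))) : z ∈ J := by
  obtain ⟨d, a, v, ha, hv, hvp, rfl⟩ := exists_frac z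
  rw [inc_frac, IsLocalization.mk'_mem_map_algebraMap_iff (M := p.primeCompl)] at hz
  obtain ⟨w, hwp, hw⟩ := hz
  obtain ⟨e, he⟩ := exists_component_notMem hp hwp
  have h1 : (decompose 𝒜 w e : A) * a ∈ gIdeal J := by
    rw [← DirectSum.coe_decompose_mul_add_of_right_mem 𝒜 ha]
    exact gIdeal_isHomogeneous (e + d) hw
  have h2 := (mem_gIdeal (SetLike.mul_mem_graded (SetLike.coe_mem _) ha)).1 h1 0 1
    ((decompose 𝒜 w e : A) * v) SetLike.GradedOne.one_mem
    (by rw [add_zero]; exact SetLike.mul_mem_graded (SetLike.coe_mem _) hv) (mul_notMem he hvp)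
  rwa [frac_eq (b := a) (w := v) _ _ _ ha hv hvp (by ring)] at h2

/-- Ideals contract. -/
theorem comap_map_inc (hp : p.IsHomogeneous 𝒜) (J : Ideal (HomogeneousLocalization.AtPrime 𝒜 p)) :
    (J.map (inc 𝒜 p)).comap (inc 𝒜 p) = J :=
  le_antisymm (fun _ hz => mem_of_inc_mem_map_gIdeal hp (map_inc_le hz)) Ideal.le_comap_map

theorem mem_of_inc_mem_map (hp : p.IsHomogeneous 𝒜) {J : Ideal (HomogeneousLocalization.AtPrime 𝒜 p)}
    {z : HomogeneousLocalization.AtPrime 𝒜 p} (hz : inc 𝒜 p z ∈ J.map (inc 𝒜 p)) : z ∈ J :=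
  (comap_map_inc hp J).le hz

theorem isNoetherianRing (hp : p.IsHomogeneous 𝒜) [IsNoetherianRing (Localization.AtPrime p)] :
    IsNoetherianRing (HomogeneousLocalization.AtPrime 𝒜 p) := by
  rw [isNoetherianRing_iff, isNoetherian_iff']
  exact (OrderEmbedding.ofMapLEIff (Ideal.map (inc 𝒜 p)) fun I I' =>
    ⟨fun h => by rw [← comap_map_inc hp I, ← comap_map_inc hp I']; exact Ideal.comap_mono h,
      Ideal.map_mono⟩).wellFoundedGT

end Groth.Agent.PStalk95
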