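import Groth.Agent.PStalk95.Prop
import Mathlib.AlgebraicGeometry.ProjectiveSpectrum.Basic
import Mathlib.RingTheory.IntegralClosure.IntegrallyClosed

/-!
# Normality and the Gorenstein property of homogeneous localizations; stalks of Proj
-/

set_option autoImplicit false
set_option linter.unusedSectionVars false
set_option linter.style.haveILetI false

universe u

open HomogeneousLocalization DirectSum IsLocalRing RingTheory.Sequence AlgebraicGeometry
open scoped Pointwise

namespace Groth.Agent.PStalk95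

/-- Lifting the Gorenstein property along a regular sequence. -/
theorem gorenstein_of_quotient_list : ∀ (m : ℕ) (R : Type u) [CommRing R] [IsLocalRing R] [IsNoetherianRing R]
    (x : List R), x.length = m → IsWeaklyRegular R x → (∀ r ∈ x, r ∈ maximalIdeal R) →
    LocCoh.IsGorensteinLocalRing (R ⧸ Ideal.ofList x) → LocCoh.IsGorensteinLocalRing R
  | 0 => fun R _ _ _ x hx _ _ hG => by
    obtain rfl := List.length_eq_zero_iff.1 hx
    exact LC.gorenstein_of_ringEquiv
      ((Ideal.quotEquivOfEq (Ideal.ofList_nil (R := R))).trans (RingEquiv.quotientBot R))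
  | m + 1 => fun R _ _ _ x hx hreg hmem hG => by
    obtain ⟨a, y, rfl⟩ := List.exists_cons_of_length_eq_add_one hx
    rw [isWeaklyRegular_cons_iff] at hreg
    have ha : a ∈ maximalIdeal R := hmem a List.mem_cons_self
    let S := R ⧸ Ideal.span {a}
    haveI : Nontrivial S := Ideal.Quotient.nontrivial_iff.2 fun h =>
      (maximalIdeal.isMaximal R).ne_top (top_le_iff.1 (h ▸ Ideal.span_le.2 (Set.singleton_subset_iff.2 ha)))
    haveI : IsLocalRing S := IsLocalRing.of_surjective' _ (Ideal.Quotient.mk_surjective (I := Ideal.span {a}))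
    haveI : IsLocalHom (Ideal.Quotient.mk (Ideal.span {a})) := IsLocalHom.of_surjective _ Ideal.Quotient.mk_surjective
    have hm' : ∀ r ∈ y.map (Ideal.Quotient.mk (Ideal.span {a})), r ∈ maximalIdeal S := by
      intro r hr
      obtain ⟨r', hr', rfl⟩ := List.mem_map.1 hr
      exact fun hu => hmem r' (List.mem_cons_of_mem _ hr') (isUnit_of_map_unit _ _ hu)
    have he : Ideal.span {a} • (⊤ : Submodule R R) = Ideal.span {a} := by rw [smul_eq_mul, Ideal.mul_top]
    have hy : IsWeaklyRegular S (y.map (Ideal.Quotient.mk (Ideal.span {a}))) := by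
      have e : QuotSMulTop a R ≃ₗ[R] S :=
        Submodule.quotEquivOfEq _ _ (by rw [← Submodule.ideal_span_singleton_smul, he])
      have h1 := (LinearEquiv.isWeaklyRegular_congr e y).1 hreg.2
      exact (isWeaklyRegular_map_algebraMap_iff S S y).2 h1
    haveI : LocCoh.IsGorensteinLocalRing (S ⧸ Ideal.ofList (y.map (Ideal.Quotient.mk (Ideal.span {a})))) := by
      haveI := hG
      let e : (R ⧸ Ideal.ofList (a :: y)) ≃+*
          (S ⧸ Ideal.ofList (y.map (Ideal.Quotient.mk (Ideal.span {a})))) :=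
        ((Ideal.quotEquivOfEq (Ideal.ofList_cons a y)).trans
          (DoubleQuot.quotQuotEquivQuotSup (Ideal.span {a}) (Ideal.ofList y)).symm).trans
          (Ideal.quotEquivOfEq (Ideal.map_ofList _ _))
      haveI := e.isLocalRing
      exact LC.gorenstein_of_ringEquiv e
    haveI := gorenstein_of_quotient_list m S _ (by
      rw [List.length_map]; simpa using hx) hy hm' inferInstance
    exact LC.gorenstein_of_quotient ha hreg.1

variable {A : Type u} [CommRing A] {σ : Type*} [SetLike σ A] [AddSubgroupClass σ A] {𝒜 : ℕ → σ} [GradedRing 𝒜]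
variable {p : Ideal A} [p.IsPrime] (hp : p.IsHomogeneous 𝒜)

local notation "L" => HomogeneousLocalization.AtPrime 𝒜 p
local notation "K" => Localization.AtPrime p

include hp

theorem isDomain_of (h : IsDomain K) : IsDomain L :=
  (inc_injective (𝒜 := 𝒜) (p := p)).isDomain _

theorem isIntegrallyClosed_of (hd : IsDomain K) (hc : IsIntegrallyClosed K) : IsIntegrallyClosed L := by
  haveI := isDomain_of (𝒜 := 𝒜) hp hd
  rw [isIntegrallyClosed_iff (FractionRing L)]
  intro x hx
  let g : L →+* FractionRing K := (algebraMap K (FractionRing K)).comp (inc 𝒜 p)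
  have hg : Function.Injective g := (IsFractionRing.injective K (FractionRing K)).comp inc_injective
  let φ : FractionRing L →+* FractionRing K := IsFractionRing.lift hg
  have hφ : ∀ z, φ (algebraMap L (FractionRing L) z) = g z := fun z => IsFractionRing.lift_algebraMap hg z
  obtain ⟨P, hP, hPx⟩ := hx
  obtain ⟨y, hy⟩ := (isIntegrallyClosed_iff (FractionRing K)).1 hc (x := φ x) ⟨P.map (inc 𝒜 p), hP.map _, by
    rw [Polynomial.eval₂_map, show (algebraMap K (FractionRing K)).comp (inc 𝒜 p) =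
      φ.comp (algebraMap L (FractionRing L)) from RingHom.ext fun z => (hφ z).symm,
      ← Polynomial.hom_eval₂, hPx, map_zero]⟩
  obtain ⟨z₁, z₂, hz₂, hdiv⟩ := IsFractionRing.div_surjective (A := L) x
  have hne : g z₂ ≠ 0 := fun h => nonZeroDivisors.ne_zero hz₂ (hg (h.trans (map_zero g).symm))
  have h1 : inc 𝒜 p z₁ = y * inc 𝒜 p z₂ := by
    apply IsFractionRing.injective K (FractionRing K)
    rw [map_mul, hy, ← hdiv, map_div₀, hφ, hφ]
    exact (div_mul_cancel₀ _ hne).symm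
  obtain ⟨l, hl⟩ := Ideal.mem_span_singleton'.1 (mem_of_inc_mem_map hp (J := Ideal.span {z₂}) (z := z₁) (by
    rw [Ideal.map_span, Set.image_singleton, h1]
    exact Ideal.mem_span_singleton'.2 ⟨y, rfl⟩))
  refine ⟨l, ?_⟩
  rw [← hdiv, ← hl, map_mul, mul_div_cancel_right₀]
  exact fun h => nonZeroDivisors.ne_zero hz₂ (IsFractionRing.injective L (FractionRing L) (h.trans (map_zero _).symm))

theorem map_maximalIdeal {D : ℕ} {a b : A} (ha : a ∈ 𝒜 (D + 1)) (hb : b ∈ 𝒜 D) (hap : a ∉ p) (hbp : b ∉ p) :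
    (maximalIdeal L).map (inc 𝒜 p) = maximalIdeal K := by
  classical
  refine le_antisymm (Ideal.map_le_iff_le_comap.2 fun z hz hu' => hz (IsLocalHom.map_nonunit z hu')) ?_
  rw [← IsLocalization.AtPrime.map_eq_maximalIdeal p K, Ideal.map_le_iff_le_comap]
  intro c hc
  rw [← sum_support_decompose 𝒜 c]
  refine Ideal.sum_mem _ fun d _ => ?_
  have hd : (decompose 𝒜 c d : A) ∈ p := hp d hc
  generalize hx : (decompose 𝒜 c d : A) = x at hd
  have hxd : x ∈ 𝒜 d := hx ▸ SetLike.coe_mem _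
  have hn : x * b ^ d ∈ 𝒜 (d * (D + 1)) := by
    rw [show d * (D + 1) = d + d • D by simp; ring]
    exact SetLike.mul_mem_graded hxd (SetLike.pow_mem_graded d hb)
  have hdn : a ^ d ∈ 𝒜 (d * (D + 1)) := SetLike.pow_mem_graded d ha
  have hm : frac hn hdn (pow_notMem hap d) ∈ maximalIdeal L := fun hU =>
    (notMem_isUnit_frac _ _ _).1 hU (Ideal.mul_mem_right _ _ hd)
  show algebraMap A K x ∈ (maximalIdeal L).map (inc 𝒜 p)
  have hkey : algebraMap A K x = inc 𝒜 p (frac hn hdn (pow_notMem hap d)) *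
      IsLocalization.mk' K (a ^ d) (⟨b ^ d, pow_notMem hbp d⟩ : p.primeCompl) := by
    rw [inc_frac, ← IsLocalization.mk'_mul, IsLocalization.eq_mk'_iff_mul_eq, ← map_mul]
    refine congrArg _ ?_
    simp only [Submonoid.coe_mul]
    ring
  rw [hkey]
  exact Ideal.mul_mem_right _ _ (Ideal.mem_map_of_mem _ hm)

theorem unit_relation {D : ℕ} {a b : A} (ha : a ∈ 𝒜 (D + 1)) (hb : b ∈ 𝒜 D) (hap : a ∉ p) (hbp : b ∉ p)
    {J : Ideal L} {z₁ z₂ : L} {κ : K}
    (h : inc 𝒜 p z₁ - κ * inc 𝒜 p z₂ ∈ J.map (inc 𝒜 p)) : ∃ c : L, z₁ - c * z₂ ∈ J := by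
  classical
  obtain ⟨d₁, S, s, hS, hs, hsp, rfl⟩ := exists_frac z₁
  obtain ⟨d₂, T, t, hT, ht, htp, rfl⟩ := exists_frac z₂
  obtain ⟨k, w, rfl⟩ := IsLocalization.exists_mk'_eq p.primeCompl κ
  have h' := map_inc_le h
  rw [inc_frac, inc_frac, ← IsLocalization.mk'_mul, ← IsLocalization.mk'_sub,
    IsLocalization.mk'_mem_map_algebraMap_iff (M := p.primeCompl)] at h'
  obtain ⟨v, hvp, hv⟩ := h'
  simp only [Submonoid.coe_mul] at hv
  obtain ⟨e, he⟩ := exists_component_notMem hp (mul_notMem hvp w.2)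
  let W : A := decompose 𝒜 (v * (w : A)) e
  let B : A := decompose 𝒜 (v * k) e
  have hW : W ∈ 𝒜 e := SetLike.coe_mem _
  have hB : B ∈ 𝒜 e := SetLike.coe_mem _
  have hH : W * (S * t) - B * (T * s) ∈ gIdeal J := by
    have h1 := gIdeal_isHomogeneous (e + (d₁ + d₂)) hv
    have hTs : T * s ∈ 𝒜 (d₁ + d₂) := by rw [add_comm]; exact SetLike.mul_mem_graded hT hs
    rw [show v * (S * ((w : A) * t) - k * T * s) = v * (w : A) * (S * t) - v * k * (T * s) by ring,
      decompose_sub, DirectSum.sub_apply, AddSubgroupClass.coe_sub,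
      DirectSum.coe_decompose_mul_add_of_right_mem 𝒜 (SetLike.mul_mem_graded hS ht),
      DirectSum.coe_decompose_mul_add_of_right_mem 𝒜 hTs] at h1
    exact h1
  have hWn : W * b ^ e ∈ 𝒜 (e * (D + 1)) := by
    rw [show e * (D + 1) = e + e • D by simp; ring]
    exact SetLike.mul_mem_graded hW (SetLike.pow_mem_graded e hb)
  have hBn : B * b ^ e ∈ 𝒜 (e * (D + 1)) := by
    rw [show e * (D + 1) = e + e • D by simp; ring]
    exact SetLike.mul_mem_graded hB (SetLike.pow_mem_graded e hb)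
  have hae : a ^ e ∈ 𝒜 (e * (D + 1)) := SetLike.pow_mem_graded e ha
  let W₀ : L := frac hWn hae (pow_notMem hap e)
  let B₀ : L := frac hBn hae (pow_notMem hap e)
  have hU : IsUnit W₀ := (notMem_isUnit_frac _ _ _).2 (mul_notMem he (pow_notMem hbp e))
  have hmem : W₀ * frac hS hs hsp - B₀ * frac hT ht htp ∈ J := by
    refine mem_of_inc_mem_map_gIdeal hp ?_
    simp only [W₀, B₀, map_sub, map_mul, inc_frac]
    rw [← IsLocalization.mk'_mul, ← IsLocalization.mk'_mul, ← IsLocalization.mk'_sub,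
      IsLocalization.mk'_mem_map_algebraMap_iff (M := p.primeCompl)]
    refine ⟨1, one_mem _, ?_⟩
    simp only [Submonoid.coe_mul, one_mul]
    rw [show W * b ^ e * S * (a ^ e * t) - B * b ^ e * T * (a ^ e * s) =
      (W * (S * t) - B * (T * s)) * (b ^ e * a ^ e) by ring]
    exact Ideal.mul_mem_right _ _ hH
  obtain ⟨U, hU'⟩ := hU
  refine ⟨((U⁻¹ : Lˣ) : L) * B₀, ?_⟩
  have h2 := J.mul_mem_left ((U⁻¹ : Lˣ) : L) hmem
  rw [mul_sub, ← hU', ← mul_assoc, Units.inv_mul, one_mul, ← mul_assoc] at h2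
  exact h2

variable [IsNoetherianRing A]

theorem gorenstein_of {D : ℕ} {a b : A} (ha : a ∈ 𝒜 (D + 1)) (hb : b ∈ 𝒜 D) (hap : a ∉ p) (hbp : b ∉ p)
    (hK : LocCoh.IsGorensteinLocalRing K) : LocCoh.IsGorensteinLocalRing L := by
  classical
  haveI := hK
  haveI := isNoetherianRing (𝒜 := 𝒜) hp
  have hCM : LocCoh.IsCohenMacaulayLocalRing K := LC.isCohenMacaulayLocalRing_of_gorenstein
  obtain ⟨-, x, hregL, hregK, hrL, hrK⟩ := cm_aux hp (Nat.succ_pos D) ha hap hCM
  have hxm : ∀ r ∈ x, r ∈ maximalIdeal L := fun r hr => hrL ▸ Ideal.le_radical (Ideal.subset_span hr)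
  refine gorenstein_of_quotient_list _ L x rfl hregL hxm ?_
  have hJm : Ideal.ofList x ≤ maximalIdeal L := Ideal.span_le.2 hxm
  haveI : Nontrivial (L ⧸ Ideal.ofList x) := Ideal.Quotient.nontrivial_iff.2 fun h =>
    (maximalIdeal.isMaximal L).ne_top (top_le_iff.1 (h ▸ hJm))
  haveI : IsLocalRing (L ⧸ Ideal.ofList x) :=
    IsLocalRing.of_surjective' _ (Ideal.Quotient.mk_surjective (I := Ideal.ofList x))
  haveI : IsLocalHom (Ideal.Quotient.mk (Ideal.ofList x)) := IsLocalHom.of_surjective _ Ideal.Quotient.mk_surjective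
  have hmap : maximalIdeal (L ⧸ Ideal.ofList x) = (maximalIdeal L).map (Ideal.Quotient.mk _) := by
    refine le_antisymm (fun z hz => ?_) (Ideal.map_le_iff_le_comap.2 fun z hz hu' => hz (isUnit_of_map_unit _ _ hu'))
    obtain ⟨z, rfl⟩ := Ideal.Quotient.mk_surjective z
    exact Ideal.mem_map_of_mem _ fun hu' => hz (hu'.map _)
  obtain ⟨N, hN⟩ := Ideal.exists_radical_pow_le_of_fg (Ideal.ofList x) (IsNoetherian.noetherian _)
  rw [hrL] at hN
  have hex : ∃ N, maximalIdeal L ^ N ≤ Ideal.ofList x := ⟨N, hN⟩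
  have hN0 : Nat.find hex ≠ 0 := fun h0 => by
    have := Nat.find_spec hex
    rw [h0, pow_zero, Ideal.one_eq_top, top_le_iff] at this
    exact (maximalIdeal.isMaximal L).ne_top (top_le_iff.1 (this ▸ hJm))
  obtain ⟨M, hM⟩ := Nat.exists_eq_succ_of_ne_zero hN0
  obtain ⟨z, hzM, hzJ⟩ := SetLike.not_le_iff_exists.1 (Nat.find_min hex (show M < Nat.find hex by omega))
  have hsocL : ∀ r ∈ maximalIdeal L, r * z ∈ Ideal.ofList x := fun r hr => by
    refine Nat.find_spec hex ?_
    rw [hM, pow_succ']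
    exact Ideal.mul_mem_mul hr hzM
  -- the socle upstairs
  let I : Ideal K := Ideal.ofList (x.map (inc 𝒜 p))
  have hIK : I = (Ideal.ofList x).map (inc 𝒜 p) := (Ideal.map_ofList _ _).symm
  haveI : LocCoh.IsGorensteinLocalRing (K ⧸ I) := LC.gorenstein_quotient_ofList _
    (fun r hr => hrK ▸ Ideal.le_radical (Ideal.subset_span hr)) hregK
  haveI : IsLocalHom (Ideal.Quotient.mk I) := IsLocalHom.of_surjective _ Ideal.Quotient.mk_surjective
  have hsocK : ∀ w : L, (∀ r ∈ maximalIdeal L, r * w ∈ Ideal.ofList x) →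
      ∀ r ∈ maximalIdeal (K ⧸ I), r * Ideal.Quotient.mk I (inc 𝒜 p w) = 0 := by
    intro w hw r hr
    obtain ⟨r, rfl⟩ := Ideal.Quotient.mk_surjective r
    rw [← map_mul, Ideal.Quotient.eq_zero_iff_mem, hIK]
    have hr' : r ∈ (maximalIdeal L).map (inc 𝒜 p) := by
      rw [map_maximalIdeal hp ha hb hap hbp]; exact fun hu' => hr (hu'.map _)
    have hle : (maximalIdeal L).map (inc 𝒜 p) * Ideal.span {inc 𝒜 p w} ≤ (Ideal.ofList x).map (inc 𝒜 p) := by
      rw [← Set.image_singleton, ← Ideal.map_span, ← Ideal.map_mul]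
      refine Ideal.map_mono (Ideal.mul_le.2 fun r hr y hy => ?_)
      obtain ⟨c, rfl⟩ := Ideal.mem_span_singleton'.1 hy
      rw [mul_left_comm]
      exact Ideal.mul_mem_left _ _ (hw r hr)
    exact hle (Ideal.mul_mem_mul hr' (Ideal.mem_span_singleton_self _))
  have hzne : Ideal.Quotient.mk I (inc 𝒜 p z) ≠ 0 := fun h0 => hzJ (mem_of_inc_mem_map hp (by
    rwa [Ideal.Quotient.eq_zero_iff_mem, hIK] at h0))
  obtain ⟨-, hsimple⟩ := LC.socle_of_gorenstein hzne (hsocK z hsocL)
  refine LC.gorenstein_of_socle (s := Ideal.Quotient.mk _ z) ⟨N, ?_⟩ (fun h0 => hzJ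
    (Ideal.Quotient.eq_zero_iff_mem.1 h0)) (fun r hr => ?_) fun t ht => ?_
  · rw [hmap, ← Ideal.map_pow]
    exact le_bot_iff.1 ((Ideal.map_mono hN).trans (Ideal.map_quotient_self _).le)
  · obtain ⟨r, rfl⟩ := Ideal.Quotient.mk_surjective r
    rw [← map_mul, Ideal.Quotient.eq_zero_iff_mem]
    exact hsocL r fun hu' => hr (hu'.map _)
  · obtain ⟨t, rfl⟩ := Ideal.Quotient.mk_surjective t
    have ht' : ∀ r ∈ maximalIdeal L, r * t ∈ Ideal.ofList x := fun r hr => by
      rw [← Ideal.Quotient.eq_zero_iff_mem, map_mul]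
      exact ht _ fun hu' => hr (isUnit_of_map_unit _ _ hu')
    obtain ⟨c, hc⟩ := hsimple _ (hsocK t ht')
    obtain ⟨c, rfl⟩ := Ideal.Quotient.mk_surjective c
    rw [← map_mul, Ideal.Quotient.eq, hIK] at hc
    obtain ⟨c', hc'⟩ := unit_relation hp ha hb hap hbp hc
    exact ⟨Ideal.Quotient.mk _ c', by rw [← map_mul, Ideal.Quotient.eq]; exact hc'⟩

omit hp in
theorem exists_point (A : Type u) [CommRing A] (𝒜 : ℕ → AddSubgroup A) [GradedRing 𝒜] (x : Proj 𝒜) :
    ∃ (p : Ideal A) (_ : p.IsPrime), p.IsHomogeneous 𝒜 ∧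
      Nonempty ((Proj 𝒜).presheaf.stalk x ≃+* HomogeneousLocalization.AtPrime 𝒜 p) ∧
      ∃ n, 0 < n ∧ ∃ u ∈ 𝒜 n, u ∉ p := by
  classical
  let x' : ProjectiveSpectrum 𝒜 := x
  refine ⟨x'.asHomogeneousIdeal.toIdeal, x'.isPrime, x'.asHomogeneousIdeal.isHomogeneous,
    ⟨AlgebraicGeometry.Proj.stalkIso' 𝒜 x⟩, ?_⟩
  by_contra h
  push Not at h
  refine x'.not_irrelevant_le ((HomogeneousIdeal.irrelevant_le _).2 fun i hi a ha => h i hi a ha)

omit hp in
theorem exists_mem_of_sharp {n : ℕ} {u : A} (hn : 0 < n) (hu : u ∈ 𝒜 n) (hup : u ∉ p) {d : ℕ}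
    (hd : ∀ m, 1 ≤ m → ∀ z ∈ 𝒜 ((m + 1) * d),
      z ∈ AddSubgroup.closure ((𝒜 d : Set A) * (𝒜 (m * d) : Set A))) :
    ∃ a ∈ 𝒜 d, a ∉ p := by
  by_contra h
  push Not at h
  have hall : ∀ m, 1 ≤ m → ∀ z ∈ 𝒜 (m * d), z ∈ p := by
    intro m hm
    induction m, hm using Nat.le_induction with
    | base => intro z hz; rw [one_mul] at hz; exact h z hz
    | succ m hm ih =>
      intro z hz
      refine (AddSubgroup.closure_le p.toAddSubgroup).2 ?_ (hd m hm z hz)
      rintro _ ⟨a, ha, b, hb, rfl⟩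
      exact Ideal.mul_mem_right _ _ (h a ha)
  exact pow_notMem hup d (hall n hn _ (by rw [mul_comm]; simpa using SetLike.pow_mem_graded d hu))

end Groth.Agent.PStalk95
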