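import Groth.Agent.PStalk95.Basic
import Groth.Agent.LC.Sop
import Groth.Agent.LC.GorFlat
import Groth.Agent.LC.GorQuot
import Groth.Agent.LC.GorHull
import Groth.Agent.CohenLib.Structure
import Groth.Agent.FlatLoc6.SerreNormal

/-!
# Properties of the degree zero part of a homogeneous localization
-/

set_option autoImplicit false
set_option linter.unusedSectionVars false
set_option linter.style.haveILetI false

universe u

open HomogeneousLocalization DirectSum IsLocalRing RingTheory.Sequence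

namespace Groth.Agent.PStalk95

variable {A : Type u} [CommRing A] {σ : Type*} [SetLike σ A] [AddSubgroupClass σ A] {𝒜 : ℕ → σ} [GradedRing 𝒜]
variable {p : Ideal A} [p.IsPrime] (hp : p.IsHomogeneous 𝒜) {n : ℕ} (hn : 0 < n) {u : A} (hu : u ∈ 𝒜 n)
  (hup : u ∉ p)

local notation "L" => HomogeneousLocalization.AtPrime 𝒜 p
local notation "K" => Localization.AtPrime p

/-- The degree zero fraction `a ^ n / u ^ d` of a homogeneous element. -/
def norm {a : A} {d : ℕ} (ha : a ∈ 𝒜 d) : L :=
  frac (a := a ^ n) (v := u ^ d) (d := n * d) (by simpa using SetLike.pow_mem_graded n ha)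
    (by rw [mul_comm]; simpa using SetLike.pow_mem_graded d hu) (pow_notMem hup d)

theorem inc_norm {a : A} {d : ℕ} (ha : a ∈ 𝒜 d) :
    inc 𝒜 p (norm hu hup ha) * algebraMap A K (u ^ d) = algebraMap A K a ^ n := by
  rw [norm, inc_frac, ← map_pow]
  exact IsLocalization.mk'_spec K _ _

include hp hn hu hup

theorem mem_gIdeal_iff_norm {J : Ideal L} [J.IsPrime] {a : A} {d : ℕ} (ha : a ∈ 𝒜 d) :
    a ∈ gIdeal J ↔ norm hu hup ha ∈ J := by
  constructor
  · intro h
    obtain ⟨m, rfl⟩ : ∃ m, n = m + 1 := ⟨n - 1, by omega⟩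
    have := (mem_gIdeal ha).1 h (d * m) (a ^ m) (u ^ d) (by rw [mul_comm]; simpa using SetLike.pow_mem_graded m ha)
      (by rw [show d + d * m = d * (m + 1) by ring]; simpa using SetLike.pow_mem_graded d hu) (pow_notMem hup d)
    rwa [norm, frac_eq (b := a * a ^ m) (w := u ^ d) (e := d + d * m) _ _ _ _ _ (pow_notMem hup d) (by ring)]
  · intro h
    rw [mem_gIdeal ha]
    intro i b v hb hv hvp
    refine Ideal.IsPrime.mem_of_pow_mem (I := J) inferInstance n ?_
    have hb' : u ^ d * b ^ n ∈ 𝒜 (n * (d + i)) := by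
      rw [mul_add]
      refine SetLike.mul_mem_graded ?_ ?_
      · rw [mul_comm]; simpa using SetLike.pow_mem_graded d hu
      · simpa using SetLike.pow_mem_graded n hb
    have hv' : v ^ n ∈ 𝒜 (n * (d + i)) := by simpa using SetLike.pow_mem_graded n hv
    have hm := J.mul_mem_right (frac hb' hv' (pow_notMem hvp n)) h
    rw [norm, frac_mul] at hm
    rw [frac_pow]
    rwa [frac_eq (a := (a * b) ^ n) (b := a ^ n * (u ^ d * b ^ n)) (w := u ^ d * v ^ n) _ _ _
      (SetLike.mul_mem_graded (by simpa using SetLike.pow_mem_graded n ha) hb')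
      (SetLike.mul_mem_graded (by rw [mul_comm]; simpa using SetLike.pow_mem_graded d hu) hv')
      (mul_notMem (pow_notMem hup d) (pow_notMem hvp n)) (by ring)]

theorem norm_notMem {a : A} {d : ℕ} (ha : a ∈ 𝒜 d) (hap : a ∉ p) {J : Ideal L} (hJ : J ≠ ⊤) :
    norm hu hup ha ∉ J := fun h =>
  hJ (Ideal.eq_top_of_isUnit_mem _ h ((notMem_isUnit_frac _ _ _).2 (pow_notMem hap n)))

theorem gIdeal_le {J : Ideal L} [J.IsPrime] : gIdeal J ≤ p := fun a ha => by
  classical
  rw [← sum_support_decompose 𝒜 a]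
  refine Ideal.sum_mem _ fun d _ => ?_
  by_contra hap
  exact norm_notMem hp hn hu hup (SetLike.coe_mem _) hap (Ideal.IsPrime.ne_top inferInstance)
    ((mem_gIdeal_iff_norm hp hn hu hup (SetLike.coe_mem _)).1 (gIdeal_isHomogeneous d ha))

theorem gIdeal_isPrime {J : Ideal L} [J.IsPrime] : (gIdeal J).IsPrime := by
  refine gIdeal_isHomogeneous.isPrime_of_homogeneous_mem_or_mem
    (fun h => Ideal.IsPrime.ne_top (I := p) inferInstance (top_le_iff.1 (h ▸ gIdeal_le hp hn hu hup))) ?_
  intro a b ⟨d, ha⟩ ⟨e, hb⟩ hab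
  rw [mem_gIdeal_iff_norm hp hn hu hup ha, mem_gIdeal_iff_norm hp hn hu hup hb]
  rw [mem_gIdeal_iff_norm hp hn hu hup (SetLike.mul_mem_graded ha hb)] at hab
  refine Ideal.IsPrime.mem_or_mem inferInstance ?_
  rw [norm, norm, frac_mul]
  rwa [norm, frac_eq (b := a ^ n * b ^ n) (w := u ^ d * u ^ e) _ _ _
    (SetLike.mul_mem_graded (by simpa using SetLike.pow_mem_graded n ha) (by simpa using SetLike.pow_mem_graded n hb))
    (SetLike.mul_mem_graded (i := n * d) (j := n * e) (by rw [mul_comm]; simpa using SetLike.pow_mem_graded d hu)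
      (by rw [mul_comm]; simpa using SetLike.pow_mem_graded e hu))
    (mul_notMem (pow_notMem hup d) (pow_notMem hup e)) (by ring)] at hab

theorem ringKrullDim_le : ringKrullDim L ≤ ringKrullDim K := by
  have hprime : ∀ q : PrimeSpectrum L, ((gIdeal q.asIdeal).map (algebraMap A K)).IsPrime := fun q => by
    haveI := gIdeal_isPrime hp hn hu hup (J := q.asIdeal)
    refine IsLocalization.isPrime_of_isPrime_disjoint p.primeCompl _ _ this ?_
    exact Set.disjoint_left.2 fun x hx hx' => hx (gIdeal_le hp hn hu hup hx')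
  refine Order.krullDim_le_of_strictMono (fun q => ⟨_, hprime q⟩ : PrimeSpectrum L → PrimeSpectrum K) ?_
  refine Monotone.strictMono_of_injective (fun q q' h => Ideal.map_mono (fun a ha d i b v hb hv hvp =>
    h (ha d i b v hb hv hvp))) fun q q' h => ?_
  have h' : (gIdeal q.asIdeal).map (algebraMap A K) = (gIdeal q'.asIdeal).map (algebraMap A K) :=
    congrArg PrimeSpectrum.asIdeal h
  refine PrimeSpectrum.ext (le_antisymm (fun z hz => ?_) fun z hz => ?_)
  · exact mem_of_inc_mem_map_gIdeal hp (h' ▸ map_inc_le (Ideal.mem_map_of_mem _ hz))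
  · exact mem_of_inc_mem_map_gIdeal hp (h'.symm ▸ map_inc_le (Ideal.mem_map_of_mem _ hz))

/-- A system of parameters stays one. -/
theorem radical_map (J : Ideal L) (hJ : maximalIdeal L ≤ J.radical) (hJm : J ≤ maximalIdeal L) :
    (J.map (inc 𝒜 p)).radical = maximalIdeal K := by
  classical
  refine le_antisymm ((maximalIdeal.isMaximal K).isPrime.radical_le_iff.2 ?_) ?_
  · refine Ideal.map_le_iff_le_comap.2 (hJm.trans fun z hz => ?_)
    exact fun hu' => hz (IsLocalHom.map_nonunit z hu')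
  · rw [← IsLocalization.AtPrime.map_eq_maximalIdeal p K, Ideal.map_le_iff_le_comap]
    intro a ha
    rw [← sum_support_decompose 𝒜 a]
    refine Ideal.sum_mem _ fun d _ => ?_
    have hd : (decompose 𝒜 a d : A) ∈ p := hp d ha
    generalize hx : (decompose 𝒜 a d : A) = x at hd
    have hxd : x ∈ 𝒜 d := hx ▸ SetLike.coe_mem _
    have hm : norm hu hup hxd ∈ maximalIdeal L := fun hU =>
      ((notMem_isUnit_frac _ _ _).1 hU) (Ideal.pow_mem_of_mem _ hd n hn)
    obtain ⟨k, hk⟩ := Ideal.mem_radical_iff.1 (hJ hm)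
    refine Ideal.mem_radical_iff.2 ⟨n * k, ?_⟩
    rw [pow_mul, ← inc_norm hu hup hxd, mul_pow, ← map_pow]
    exact Ideal.mul_mem_right _ _ (Ideal.mem_map_of_mem _ hk)

variable [IsNoetherianRing A]

theorem exists_sop : ∃ (d : ℕ) (x : List L), x.length = d ∧ ringKrullDim L = d ∧ ringKrullDim K = d ∧
    (Ideal.ofList x).radical = maximalIdeal L ∧ (Ideal.ofList (x.map (inc 𝒜 p))).radical = maximalIdeal K := by
  classical
  haveI := isNoetherianRing (𝒜 := 𝒜) hp
  obtain ⟨d, t, htm, hd, hrad⟩ := CohenLib.exists_fin_sop L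
  have ho : Ideal.ofList (List.ofFn t) = Ideal.span (Set.range t) := congrArg Ideal.span (by ext; simp)
  have hle : Ideal.span (Set.range t) ≤ maximalIdeal L := Ideal.span_le.2 (Set.range_subset_iff.2 htm)
  have hK := radical_map hp hn hu hup _ hrad hle
  rw [← ho, Ideal.map_ofList] at hK
  refine ⟨d, List.ofFn t, List.length_ofFn, hd, le_antisymm ?_ (hd ▸ ringKrullDim_le hp hn hu hup), ?_, hK⟩
  · rw [← maximalIdeal_height_eq_ringKrullDim]
    let s : Finset K := Finset.univ.image fun i => inc 𝒜 p (t i)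
    have hs : Ideal.ofList ((List.ofFn t).map (inc 𝒜 p)) = Ideal.span (s : Set K) :=
      congrArg Ideal.span (by ext; simp [s])
    have hmin : maximalIdeal K ∈ (Ideal.span (s : Set K)).minimalPrimes := by
      refine ⟨⟨inferInstance, ?_⟩, fun q hq _ => ?_⟩
      · rw [← hs]; exact Ideal.le_radical.trans hK.le
      · rw [← hK, hs]; exact hq.1.radical_le_iff.2 hq.2
    have h := (Ideal.height_le_card_of_mem_minimalPrimes_span_finset hmin).trans
      (Nat.cast_le.2 (Finset.card_image_le.trans (Finset.card_univ.trans (Fintype.card_fin d)).le))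
    exact_mod_cast h
  · rw [ho]
    exact le_antisymm ((maximalIdeal.isMaximal L).isPrime.radical_le_iff.2 hle) hrad

theorem isWeaklyRegular_of_map {x : List L} (h : IsWeaklyRegular K (x.map (inc 𝒜 p))) :
    IsWeaklyRegular L x := by
  rw [isWeaklyRegular_iff] at h ⊢
  intro i hi
  have h' := h i (by rw [List.length_map]; exact hi)
  rw [List.getElem_map, ← List.map_take] at h'
  intro z z' hz
  obtain ⟨z, rfl⟩ := Submodule.Quotient.mk_surjective _ z
  obtain ⟨z', rfl⟩ := Submodule.Quotient.mk_surjective _ z'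
  simp only at hz
  rw [← Submodule.Quotient.mk_smul, ← Submodule.Quotient.mk_smul, Submodule.Quotient.eq] at hz
  rw [Submodule.Quotient.eq]
  simp only [smul_eq_mul, Ideal.mul_top] at hz ⊢
  have h2 : inc 𝒜 p (x[i] * z - x[i] * z') ∈ (Ideal.ofList (x.take i)).map (inc 𝒜 p) :=
    Ideal.mem_map_of_mem _ hz
  rw [Ideal.map_ofList] at h2
  refine mem_of_inc_mem_map hp ?_
  rw [Ideal.map_ofList]
  have h3 := @h' (Submodule.Quotient.mk (inc 𝒜 p z)) (Submodule.Quotient.mk (inc 𝒜 p z')) (by
    simp only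
    rw [← Submodule.Quotient.mk_smul, ← Submodule.Quotient.mk_smul, Submodule.Quotient.eq]
    simpa only [smul_eq_mul, Ideal.mul_top, map_sub, map_mul] using h2)
  rw [Submodule.Quotient.eq] at h3
  simpa only [smul_eq_mul, Ideal.mul_top, map_sub] using h3

theorem cm_aux (hK : LocCoh.IsCohenMacaulayLocalRing K) :
    LocCoh.IsCohenMacaulayLocalRing L ∧ ∃ (x : List L), IsWeaklyRegular L x ∧
      IsWeaklyRegular K (x.map (inc 𝒜 p)) ∧
      (Ideal.ofList x).radical = maximalIdeal L ∧ (Ideal.ofList (x.map (inc 𝒜 p))).radical = maximalIdeal K := by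
  haveI := isNoetherianRing (𝒜 := 𝒜) hp
  obtain ⟨d, x, hx, hdL, hdK, hrL, hrK⟩ := exists_sop hp hn hu hup
  have hregK : IsWeaklyRegular K (x.map (inc 𝒜 p)) :=
    LC.isWeaklyRegular_of_sop hK.supportDim_eq_depth d hdK _ (by rw [List.length_map, hx]) hrK
  have hreg := isWeaklyRegular_of_map hp hn hu hup hregK
  refine ⟨{ supportDim_eq_depth := ?_ }, x, hreg, hregK, hrL, hrK⟩
  refine le_antisymm ?_ (LC.depth_le_supportDim (R := L) L)
  rw [Module.supportDim_self_eq_ringKrullDim, hdL]
  have hle : (d : ℕ∞) ≤ LocCoh.depth L L := by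
    unfold LocCoh.depth LocCoh.idealDepth
    split_ifs with htop
    · exact le_top
    · refine le_iSup₂_of_le x ⟨hreg, fun r hr => hrL ▸ Ideal.le_radical (Ideal.subset_span hr)⟩ ?_
      rw [hx]
  exact_mod_cast hle

/-- A non-minimal associated prime gives a prime of depth zero and positive height. -/
theorem exists_bad {q : Ideal L} [q.IsPrime] (hq : q ∈ associatedPrimes L L) (hne : 0 < q.height) :
    ∃ P : Ideal A, ∃ _ : P.IsPrime, 0 < P.height ∧
      maximalIdeal (Localization.AtPrime P) ∈ associatedPrimes (Localization.AtPrime P) (Localization.AtPrime P) := by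
  classical
  haveI := isNoetherianRing (𝒜 := 𝒜) hp
  haveI hP := gIdeal_isPrime hp hn hu hup (J := q)
  refine ⟨gIdeal q, hP, ?_, ?_⟩
  · obtain ⟨q', hq', hlt⟩ : ∃ q' : Ideal L, ∃ _ : q'.IsPrime, q' < q := by
      by_contra hno
      push Not at hno
      refine hne.ne' ?_
      rw [Ideal.height_eq_zero_iff]
      refine ⟨⟨inferInstance, bot_le⟩, fun q' h' hle => ?_⟩
      exact not_lt_iff_le_imp_ge.1 (hno q' h'.1) hle
    have hlt' : gIdeal q' < gIdeal q := by
      refine lt_of_le_of_ne (fun a ha d i b v hb hv hvp => hlt.le (ha d i b v hb hv hvp)) fun he => hlt.ne ?_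
      refine le_antisymm hlt.le fun z hz => mem_of_inc_mem_map_gIdeal hp ?_
      rw [he]
      exact map_inc_le (Ideal.mem_map_of_mem _ hz)
    haveI := gIdeal_isPrime hp hn hu hup (J := q')
    exact lt_of_lt_of_le (lt_of_lt_of_le zero_lt_one le_add_self) (Ideal.height_add_one_le_of_lt_of_isPrime hlt')
  · obtain ⟨hqp, z, hz⟩ := Alg6.mem_ass_iff.1 hq
    obtain ⟨D, b, s, hb, hs, hsp, rfl⟩ := exists_frac z
    have key : ∀ {c : A} {e : ℕ} (hc : c ∈ 𝒜 e), norm hu hup hc ∈ q ↔ ∃ w : A, w ∉ p ∧ w * (c ^ n * b) = 0 := by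
      intro c e hc
      rw [hz, smul_eq_mul, ← inc_injective.eq_iff, map_mul, map_zero]
      simp only [norm, inc_frac]
      rw [← IsLocalization.mk'_mul, IsLocalization.mk'_eq_zero_iff]
      exact ⟨fun ⟨w, hw⟩ => ⟨w, w.2, hw⟩, fun ⟨w, hwp, hw⟩ => ⟨⟨w, hwp⟩, hw⟩⟩
    refine Alg6.mem_ass_iff.2 ?_
    have hb0 : algebraMap A (Localization.AtPrime (gIdeal q)) b ≠ 0 := by
      intro h0
      obtain ⟨⟨w, hw⟩, hwb⟩ := (IsLocalization.map_eq_zero_iff (gIdeal q).primeCompl _ b).1 h0
      obtain ⟨e, he⟩ := exists_component_notMem (gIdeal_isHomogeneous (J := q)) hw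
      refine he ((mem_gIdeal_iff_norm hp hn hu hup (SetLike.coe_mem _)).2 ((key _).2 ⟨1, ?_, ?_⟩))
      · exact fun h1 => Ideal.IsPrime.ne_top (I := p) inferInstance ((Ideal.eq_top_iff_one _).2 h1)
      · have h1 : (decompose 𝒜 w e : A) * b = 0 := by
          have h2 := DirectSum.coe_decompose_mul_add_of_right_mem 𝒜 (a := w) (i := e) hb
          rw [show w * b = 0 from hwb, decompose_zero, DirectSum.zero_apply, ZeroMemClass.coe_zero] at h2
          exact h2.symm
        rw [one_mul, show n = (n - 1) + 1 by omega, pow_succ, mul_assoc, h1, mul_zero]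
    refine ⟨inferInstance, ?_⟩
    by_contra hno
    have hnass : maximalIdeal (Localization.AtPrime (gIdeal q)) ∉
        associatedPrimes (Localization.AtPrime (gIdeal q)) (Localization.AtPrime (gIdeal q)) :=
      fun h => hno (Alg6.mem_ass_iff.1 h).2
    obtain ⟨r, hr, hreg⟩ := (Alg6.exists_isSMulRegular_mem_iff (M := Localization.AtPrime (gIdeal q))
      (maximalIdeal (Localization.AtPrime (gIdeal q)))).2 fun P hP' hle => hnass (by
        rwa [(maximalIdeal.isMaximal _).eq_of_le (IsAssociatedPrime.isPrime hP').ne_top hle])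
    let β := algebraMap A (Localization.AtPrime (gIdeal q)) b
    let 𝔞 : Ideal (Localization.AtPrime (gIdeal q)) := LinearMap.ker (LinearMap.toSpanSingleton _ _ β)
    have hrad : maximalIdeal (Localization.AtPrime (gIdeal q)) ≤ 𝔞.radical := by
      rw [← IsLocalization.AtPrime.map_eq_maximalIdeal (gIdeal q), Ideal.map_le_iff_le_comap]
      intro c hc
      rw [← sum_support_decompose 𝒜 c]
      refine Ideal.sum_mem _ fun e _ => ?_
      obtain ⟨w, hw, hwc⟩ := (key _).1
        ((mem_gIdeal_iff_norm hp hn hu hup (SetLike.coe_mem _)).1 (gIdeal_isHomogeneous e hc))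
      refine Ideal.mem_radical_iff.2 ⟨n, ?_⟩
      show (algebraMap A (Localization.AtPrime (gIdeal q)) (decompose 𝒜 c e : A)) ^ n *
        algebraMap A (Localization.AtPrime (gIdeal q)) b = (0 : Localization.AtPrime (gIdeal q))
      rw [← map_pow, ← map_mul, IsLocalization.map_eq_zero_iff (gIdeal q).primeCompl]
      exact ⟨⟨w, fun h => hw (gIdeal_le hp hn hu hup h)⟩, hwc⟩
    obtain ⟨k, hk⟩ := Ideal.mem_radical_iff.1 (hrad hr)
    exact hb0 ((hreg.pow k) (show r ^ k • β = r ^ k • (0 : Localization.AtPrime (gIdeal q)) by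
      rw [smul_zero]; exact hk))

theorem hasSk_one (hA : LocCoh.HasSk 1 A A) : LocCoh.HasSk 1 L L := by
  haveI := isNoetherianRing (𝒜 := 𝒜) hp
  rw [FlatLoc6.hasSk_self_iff]
  intro q _
  rcases eq_or_lt_of_le (show (0 : ℕ∞) ≤ q.height from bot_le) with h0 | h0
  · rw [← h0, min_eq_right (show (0 : ℕ∞) ≤ _ from bot_le)]; exact bot_le
  refine le_trans (min_le_left _ _) ?_
  rw [Nat.cast_one, ← FlatLoc6.depth_self_atPrime, Alg6.one_le_depth_atPrime_iff (M := L) q]
  intro hq
  obtain ⟨P, _, hPh, hPa⟩ := exists_bad hp hn hu hup hq h0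
  have h := (FlatLoc6.hasSk_self_iff 1).1 hA P
  rw [Nat.cast_one, min_eq_left (Order.one_le_iff_ne_zero.2 hPh.ne')] at h
  exact Alg6.one_le_depth_iff.1 h hPa

end Groth.Agent.PStalk95
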